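import Mathlib

/-!
Dietzmann's lemma with a bound: a finite normal set of elements of bounded exponent generates a
subgroup of bounded order.
-/

set_option autoImplicit false

namespace Cfsg.Agent.Lib.RankThreeDerived

open scoped Pointwise

variable {G : Type*} [Group G]

theorem list_move {T : Set G} (hconj : ∀ (g : G), ∀ t ∈ T, g * t * g⁻¹ ∈ T) [DecidableEq G] (t : G) :
    ∀ (w : List G), (∀ a ∈ w, a ∈ T) → ∀ k ≤ w.count t,
      ∃ w' : List G, (∀ a ∈ w', a ∈ T) ∧ w'.length + k = w.length ∧ w.prod = t ^ k * w'.prod := by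
  intro w
  induction w with
  | nil => intro _ k hk; exact ⟨[], by simp, by simp_all, by simp_all⟩
  | cons a w ih =>
    intro hw k hk
    have hw' : ∀ b ∈ w, b ∈ T := fun b hb => hw b (List.mem_cons_of_mem _ hb)
    cases k with
    | zero => exact ⟨a :: w, hw, rfl, by simp⟩
    | succ k =>
      by_cases ha : a = t
      · subst ha
        rw [List.count_cons_self] at hk
        obtain ⟨w', h1, h2, h3⟩ := ih hw' k (by omega)
        exact ⟨w', h1, by simp [← h2]; omega, by rw [List.prod_cons, h3, pow_succ', mul_assoc]⟩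
      · rw [List.count_cons_of_ne ha] at hk
        obtain ⟨w', h1, h2, h3⟩ := ih hw' (k + 1) hk
        refine ⟨(t ^ (k + 1))⁻¹ * a * t ^ (k + 1) :: w', ?_, by simp [← h2]; omega, ?_⟩
        · intro b hb
          rcases List.mem_cons.mp hb with rfl | hb
          · have := hconj (t ^ (k + 1))⁻¹ a (hw a List.mem_cons_self)
            rwa [inv_inv] at this
          · exact h1 b hb
        · rw [List.prod_cons, List.prod_cons, h3]; group

theorem exists_short {T : Set G} {e n : ℕ} (he : 0 < e) (hord : ∀ t ∈ T, t ^ e = 1)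
    (hconj : ∀ (g : G), ∀ t ∈ T, g * t * g⁻¹ ∈ T) (hfin : T.Finite) (hT : T.ncard ≤ n) :
    ∀ (k : ℕ) (w : List G), w.length = k → (∀ a ∈ w, a ∈ T) →
      ∃ w' : List G, (∀ a ∈ w', a ∈ T) ∧ w'.length ≤ n * e ∧ w'.prod = w.prod := by
  classical
  intro k
  induction k using Nat.strong_induction_on with
  | _ k ih =>
    intro w hwk hw
    by_cases hle : w.length ≤ n * e
    · exact ⟨w, hw, hle, rfl⟩
    obtain ⟨t, htw, ht⟩ : ∃ t ∈ w, e ≤ w.count t := by
      by_contra hno
      push Not at hno
      refine hle ?_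
      rw [← List.sum_toFinset_count_eq_length]
      refine le_trans (Finset.sum_le_card_nsmul _ _ e fun t ht => (hno t (List.mem_toFinset.mp ht)).le) ?_
      rw [smul_eq_mul]
      refine Nat.mul_le_mul_right _ (le_trans ?_ hT)
      rw [← Set.ncard_coe_finset]
      exact Set.ncard_le_ncard (fun t ht => hw t (List.mem_toFinset.mp ht)) hfin
    obtain ⟨w', h1, h2, h3⟩ := list_move hconj t w hw e ht
    rw [hord t (hw t htw), one_mul] at h3
    obtain ⟨w'', g1, g2, g3⟩ := ih w'.length (by omega) w' rfl h1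
    exact ⟨w'', g1, g2, g3.trans h3.symm⟩

theorem prod_mem_pow {T : Set G} : ∀ (k : ℕ) (w : List G), w.length ≤ k → (∀ a ∈ w, a ∈ T) →
    w.prod ∈ (insert 1 T) ^ k := by
  intro k
  induction k with
  | zero =>
    intro w hw _
    rw [List.length_eq_zero_iff.mp (Nat.le_zero.mp hw)]
    simp
  | succ k ih =>
    intro w hw hT
    rw [pow_succ']
    cases w with
    | nil => exact ⟨1, Set.mem_insert _ _, 1, by simpa using ih [] (Nat.zero_le _) (by simp), by simp⟩
    | cons a w =>
      exact ⟨a, Set.mem_insert_of_mem _ (hT a List.mem_cons_self), w.prod,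
        ih w (by simpa using hw) (fun b hb => hT b (List.mem_cons_of_mem _ hb)), by simp⟩

theorem ncard_pow_le [Finite G] (S : Set G) : ∀ k : ℕ, (S ^ k).ncard ≤ S.ncard ^ k := by
  intro k
  induction k with
  | zero => rw [pow_zero, pow_zero, ← Set.singleton_one, Set.ncard_singleton]
  | succ k ih =>
    rw [pow_succ', pow_succ']
    refine le_trans ?_ (Nat.mul_le_mul_left _ ih)
    rw [← Nat.card_coe_set_eq, ← Nat.card_coe_set_eq, ← Nat.card_coe_set_eq]
    exact Set.natCard_mul_le

/-- **Dietzmann's lemma**, with a bound. -/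
theorem card_closure_le [Finite G] {T : Set G} {e n : ℕ} (he : 0 < e) (hord : ∀ t ∈ T, t ^ e = 1)
    (hconj : ∀ (g : G), ∀ t ∈ T, g * t * g⁻¹ ∈ T) (hT : T.ncard ≤ n) :
    Nat.card (Subgroup.closure T) ≤ (n + 1) ^ (n * e) := by
  have hsub : (Subgroup.closure T : Set G) ⊆ (insert 1 T) ^ (n * e) := by
    intro x hx
    rw [SetLike.mem_coe, ← Subgroup.mem_toSubmonoid, Subgroup.closure_toSubmonoid_of_finite] at hx
    obtain ⟨w, hw, rfl⟩ := Submonoid.exists_list_of_mem_closure hx
    obtain ⟨w', h1, h2, h3⟩ := exists_short he hord hconj (Set.toFinite T) hT _ w rfl hw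
    rw [← h3]
    exact prod_mem_pow _ w' h2 h1
  calc Nat.card (Subgroup.closure T) = (Subgroup.closure T : Set G).ncard :=
        Nat.card_coe_set_eq _
    _ ≤ ((insert 1 T) ^ (n * e)).ncard := Set.ncard_le_ncard hsub (Set.toFinite _)
    _ ≤ (insert 1 T).ncard ^ (n * e) := ncard_pow_le _ _
    _ ≤ (n + 1) ^ (n * e) :=
        Nat.pow_le_pow_left (le_trans (Set.ncard_insert_le _ _) (by omega)) _

end Cfsg.Agent.Lib.RankThreeDerived
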