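import Cfsg.Agent.Lib.Coprime.Action
import Cfsg.Agent.Lib.Cores.Basic

/-!
Coprime action of an elementary abelian group: the index of an invariant subgroup divides the product
of its indices in the fixed points of the subgroups of index at most `q`.
-/

set_option autoImplicit false
set_option linter.unusedSectionVars false
set_option linter.style.haveILetI false
set_option maxHeartbeats 800000

namespace Cfsg.Agent.Lib.RankThreeDerived

open Subgroup SemidirectProduct
open Cfsg.Agent.Lib.Coprime.Action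
open scoped Pointwise commutatorElement

variable {A G : Type*} [Group A] [Finite A] [Group G] [Finite G] [MulDistribMulAction A G]

/-- The subgroups of index at most `q`, given by their order. -/
abbrev Big (A : Type*) [Group A] (q : ℕ) := {D : Subgroup A // Nat.card A ≤ q * Nat.card D}

/-- The fixed points of `D`. -/
abbrev fx (D : Subgroup A) : Subgroup G := FixedPoints.subgroup D G

theorem mem_fx {D : Subgroup A} {x : G} : x ∈ fx (G := G) D ↔ ∀ d ∈ D, d • x = x :=
  ⟨fun h d hd => h ⟨d, hd⟩, fun h d => h d d.2⟩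

theorem inl_mem_centralizer_map {D : Subgroup A} {g : G} :
    embG A G g ∈ centralizer ((D.map (inr : A →* Semi A G) : Subgroup (Semi A G)) : Set (Semi A G)) ↔
      g ∈ fx (G := G) D := by
  rw [mem_fx, mem_centralizer_iff]
  constructor
  · intro h d hd
    apply inl_injective (φ := MulDistribMulAction.toMulAut A G)
    show embG A G (d • g) = embG A G g
    rw [inl_smul, h (inr d) ⟨d, hd, rfl⟩]; group
  · rintro h _ ⟨d, hd, rfl⟩
    have := inl_smul d g
    rw [h d hd, eq_mul_inv_iff_mul_eq] at this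
    exact this.symm

/-- Generation by the fixed points of subgroups of index at most `q`. -/
theorem gen {q : ℕ} (hq : 0 < q) (hAc : ∀ a b : A, a * b = b * a) (hAe : ∀ a : A, a ^ q = 1)
    (hcop : (Nat.card A).Coprime (Nat.card G)) {K : Subgroup G}
    (hK : ∀ (a : A), ∀ x ∈ K, a • x ∈ K) : K ≤ ⨆ D : Big A q, K ⊓ fx D.1 := by
  haveI := finite_semi (A := A) (G := G)
  haveI : IsMulCommutative (actA A G) := ⟨⟨fun x y => Subtype.ext (by
    obtain ⟨a, ha⟩ := x.2
    obtain ⟨b, hb⟩ := y.2
    show (x : Semi A G) * y = y * x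
    rw [← ha, ← hb, ← map_mul, ← map_mul, hAc])⟩⟩
  have h1 := Coprime.iSup_centralizer_cyclic_quotient_eq (actA_le_normalizer_iff.mpr hK)
    (by rw [card_actA, card_map_embG]; exact hcop.coprime_dvd_right (card_subgroup_dvd_card K))
  set S := ⨆ D : Big A q, K ⊓ fx D.1 with hS
  have hle : K.map (embG A G) ≤ S.map (embG A G) := by
    rw [← h1]
    refine iSup₂_le ?_
    rintro B ⟨hB, c, hc, hBc⟩
    obtain ⟨a, rfl⟩ := hc
    set B' := B.comap (inr : A →* Semi A G) with hB'
    have hmap : B'.map (inr : A →* Semi A G) = B := map_comap_eq_self hB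
    have htop : zpowers a ⊔ B' = ⊤ := by
      apply map_injective (f := (inr : A →* Semi A G)) inr_injective
      rw [Subgroup.map_sup, hmap, MonoidHom.map_zpowers, ← MonoidHom.range_eq_map, sup_comm]
      exact hBc
    have hbig : Nat.card A ≤ q * Nat.card B' := by
      haveI : B'.Normal := ⟨fun x hx y => by rwa [hAc y x, mul_inv_cancel_right]⟩
      have hdvd := Cores.card_sup_dvd_mul (zpowers a) B'
      rw [htop, Subgroup.card_top, Nat.card_zpowers] at hdvd
      refine le_trans (Nat.le_of_dvd (Nat.mul_pos (orderOf_pos a) Nat.card_pos) hdvd) ?_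
      exact Nat.mul_le_mul_right _ (orderOf_le_of_pow_eq_one hq (hAe a))
    rintro x hx
    obtain ⟨⟨g, hg, rfl⟩, hgB⟩ := mem_inf.mp hx
    refine mem_map_of_mem _ (mem_iSup_of_mem ⟨B', hbig⟩ ⟨hg, ?_⟩)
    rw [← hmap] at hgB
    exact inl_mem_centralizer_map.mp hgB
  exact fun g hg => (mem_map_iff_mem inl_injective).mp (hle ⟨g, hg, rfl⟩)

theorem card_le_prod_of_iSup {Q : Type*} [CommGroup Q] [Finite Q] {ι : Type*} [Fintype ι]
    (Y : ι → Subgroup Q) (h : ⨆ i, Y i = ⊤) : Nat.card Q ≤ ∏ i, Nat.card (Y i) := by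
  classical
  have key : ∀ s : Finset ι, Nat.card (s.sup Y : Subgroup Q) ∣ ∏ i ∈ s, Nat.card (Y i) := by
    intro s
    induction s using Finset.induction_on with
    | empty => simp
    | insert i s hi ih =>
      rw [Finset.sup_insert, Finset.prod_insert hi]
      exact (Cores.card_sup_dvd_mul (Y i) (s.sup Y)).trans (mul_dvd_mul_left _ ih)
  have h1 := key Finset.univ
  rw [Finset.sup_univ_eq_iSup, h, Subgroup.card_top] at h1
  exact Nat.le_of_dvd (Finset.prod_pos fun i _ => Nat.card_pos) h1

/-- An abelian layer. -/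
theorem relIndex_le_of_commutator {q : ℕ} [Fintype (Big A q)] (hq : 0 < q)
    (hAc : ∀ a b : A, a * b = b * a) (hAe : ∀ a : A, a ^ q = 1)
    (hcop : (Nat.card A).Coprime (Nat.card G)) {R R₁ : Subgroup G}
    (hR₁ : ∀ (a : A), ∀ x ∈ R₁, a • x ∈ R₁) (hle : R ≤ R₁)
    (hcomm : ∀ x ∈ R₁, ∀ y ∈ R₁, ⁅x, y⁆ ∈ R) :
    R.relIndex R₁ ≤ ∏ D : Big A q, R.relIndex (R₁ ⊓ fx D.1) := by
  classical
  set R' := R.subgroupOf R₁ with hR'
  haveI hn : R'.Normal := ⟨fun x hx y => by
    rw [mem_subgroupOf] at hx ⊢
    have h := mul_mem (hcomm (y : G) y.2 (x : G) x.2) hx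
    rw [commutatorElement_def, inv_mul_cancel_right] at h
    simpa using h⟩
  let _ : CommGroup (R₁ ⧸ R') := { (inferInstance : Group (R₁ ⧸ R')) with
    mul_comm := fun x y => by
      induction x using QuotientGroup.induction_on with | _ x => ?_
      induction y using QuotientGroup.induction_on with | _ y => ?_
      show ((x * y : R₁) : R₁ ⧸ R') = ((y * x : R₁) : R₁ ⧸ R')
      rw [QuotientGroup.eq, hR', mem_subgroupOf]
      have h := hcomm ((y : G)⁻¹) (inv_mem y.2) ((x : G)⁻¹) (inv_mem x.2)
      rw [commutatorElement_def, inv_inv, inv_inv] at h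
      simpa [mul_assoc] using h }
  let π : R₁ →* R₁ ⧸ R' := QuotientGroup.mk' R'
  have hsup : ⨆ D : Big A q, ((R₁ ⊓ fx D.1).subgroupOf R₁).map π = ⊤ := by
    rw [← Subgroup.map_iSup, ← Subgroup.map_top_of_surjective π (QuotientGroup.mk'_surjective R')]
    congr 1
    apply map_injective R₁.subtype_injective
    rw [Subgroup.map_iSup, ← MonoidHom.range_eq_map, range_subtype]
    refine le_antisymm (iSup_le fun D => map_subtype_le _) ?_
    refine le_trans (gen hq hAc hAe hcop hR₁) (iSup_mono fun D => ?_)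
    rw [map_subgroupOf_eq_of_le inf_le_left]
  have h1 := card_le_prod_of_iSup _ hsup
  refine le_trans (le_of_eq ?_) (le_trans h1 (le_of_eq (Finset.prod_congr rfl fun D _ => ?_)))
  · rw [relIndex, ← hR', index_eq_card]
  · have h2 := Subgroup.relIndex_ker ((R₁ ⊓ fx D.1).subgroupOf R₁) π
    rw [show π.ker = R' from QuotientGroup.ker_mk' R'] at h2
    exact h2.symm.trans (relIndex_subgroupOf (H := R) inf_le_left)

/-- The inequality inside an invariant `p`-subgroup. -/
theorem relIndex_le_of_isPGroup {q p : ℕ} [Fintype (Big A q)] [Fact p.Prime] (hq : 0 < q)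
    (hAc : ∀ a b : A, a * b = b * a) (hAe : ∀ a : A, a ^ q = 1)
    (hcop : (Nat.card A).Coprime (Nat.card G)) {P : Subgroup G} (hP : IsPGroup p P)
    (hPA : ∀ (a : A), ∀ x ∈ P, a • x ∈ P) :
    ∀ (n : ℕ) (R : Subgroup G), R.relIndex P ≤ n → R ≤ P → (∀ (a : A), ∀ x ∈ R, a • x ∈ R) →
      R.relIndex P ≤ ∏ D : Big A q, R.relIndex (P ⊓ fx D.1) := by
  classical
  intro n
  induction n with
  | zero => intro R hn _ _; exact le_trans hn (Nat.zero_le _)
  | succ n ih =>
    intro R hn hRP hRA
    by_cases hRe : R = P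
    · subst hRe
      rw [relIndex_self]
      exact Finset.prod_pos fun D _ => Nat.pos_of_ne_zero index_ne_zero_of_finite
    set N := P ⊓ normalizer (R : Set G) with hN
    have hRN : R ≤ N := le_inf hRP le_normalizer
    haveI hRn : (R.subgroupOf N).Normal := normal_subgroupOf_of_le_normalizer inf_le_right
    have hNR : R.subgroupOf N ≠ ⊤ := by
      intro h
      have hNle : N ≤ R := subgroupOf_eq_top.mp h
      haveI := hP.isNilpotent
      have hlt : R.subgroupOf P < ⊤ := lt_top_iff_ne_top.mpr fun h' =>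
        hRe (le_antisymm hRP (subgroupOf_eq_top.mp h'))
      obtain ⟨z, hz, hzR⟩ := SetLike.exists_of_lt (Group.normalizerCondition_of_isNilpotent (G := P) _ hlt)
      refine hzR (mem_subgroupOf.mpr (hNle ⟨z.2, ?_⟩))
      show (z : G) ∈ normalizer (R : Set G)
      rw [mem_normalizer_iff]
      intro v
      constructor
      · intro hv
        exact (mem_normalizer_iff.mp hz ⟨v, hRP hv⟩).mp hv
      · intro hv
        have hv' : v ∈ P := by
          have := mul_mem (mul_mem (inv_mem z.2) (hRP hv)) z.2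
          simpa [mul_assoc] using this
        exact (mem_normalizer_iff.mp hz ⟨v, hv'⟩).mpr hv
    set π : N →* N ⧸ R.subgroupOf N := QuotientGroup.mk' _ with hπ
    set R₁ := ((center (N ⧸ R.subgroupOf N)).comap π).map N.subtype with hR₁def
    have hmem : ∀ x : G, x ∈ R₁ ↔ x ∈ N ∧ ∀ y ∈ N, ⁅x, y⁆ ∈ R := by
      intro x
      constructor
      · rintro ⟨x, hx, rfl⟩
        refine ⟨x.2, fun y hy => ?_⟩
        have h := (mem_center_iff.mp hx (π ⟨y, hy⟩)).symm
        have h' : π ⁅x, ⟨y, hy⟩⁆ = 1 := by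
          rw [map_commutatorElement, commutatorElement_eq_one_iff_mul_comm]; exact h
        rw [hπ, QuotientGroup.mk'_apply, QuotientGroup.eq_one_iff, mem_subgroupOf] at h'
        simpa [commutatorElement_def] using h'
      · rintro ⟨hx, h⟩
        refine ⟨⟨x, hx⟩, mem_center_iff.mpr fun z => ?_, rfl⟩
        obtain ⟨⟨y, hy⟩, rfl⟩ := QuotientGroup.mk'_surjective _ z
        have h' : π ⁅(⟨x, hx⟩ : N), ⟨y, hy⟩⁆ = 1 := by
          rw [hπ, QuotientGroup.mk'_apply, QuotientGroup.eq_one_iff, mem_subgroupOf]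
          simpa [commutatorElement_def] using h y hy
        rw [map_commutatorElement, commutatorElement_eq_one_iff_mul_comm] at h'
        exact h'.symm
    have hR₁N : R₁ ≤ N := fun x hx => ((hmem x).mp hx).1
    have hR₁P : R₁ ≤ P := hR₁N.trans inf_le_left
    have hRR₁ : R ≤ R₁ := by
      intro x hx
      refine (hmem x).mpr ⟨hRN hx, fun y hy => ?_⟩
      rw [commutatorElement_def, mul_assoc, mul_assoc, ← mul_assoc y]
      exact mul_mem hx ((mem_normalizer_iff.mp (mem_inf.mp hy).2 _).mp (inv_mem hx))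
    have hNA : ∀ (a : A), ∀ x ∈ N, a • x ∈ N := by
      intro a x hx
      refine ⟨hPA a x hx.1, mem_normalizer_iff.mpr fun v => ?_⟩
      have key : ∀ w : G, a⁻¹ • w ∈ R ↔ w ∈ R := fun w =>
        ⟨fun h => by simpa using hRA a _ h, fun h => hRA _ _ h⟩
      rw [← key v, ← key (a • x * v * (a • x)⁻¹), mem_normalizer_iff.mp hx.2 (a⁻¹ • v)]
      simp [smul_mul', smul_inv']
    have hR₁A : ∀ (a : A), ∀ x ∈ R₁, a • x ∈ R₁ := by
      intro a x hx
      obtain ⟨hxN, hxc⟩ := (hmem x).mp hx
      refine (hmem _).mpr ⟨hNA a x hxN, fun y hy => ?_⟩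
      have h := hRA a _ (hxc _ (hNA a⁻¹ y hy))
      simpa [commutatorElement_def, smul_mul', smul_inv'] using h
    have hne : R₁ ≠ R := by
      intro e
      haveI : Nontrivial (N ⧸ R.subgroupOf N) := by
        rw [QuotientGroup.nontrivial_iff]; exact hNR
      have hpq : IsPGroup p (N ⧸ R.subgroupOf N) := (hP.to_le inf_le_left).to_quotient _
      haveI := hpq.center_nontrivial
      obtain ⟨z, hz, hz1⟩ := (center (N ⧸ R.subgroupOf N)).bot_or_exists_ne_one.resolve_left
        ((center (N ⧸ R.subgroupOf N)).nontrivial_iff_ne_bot.mp inferInstance)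
      obtain ⟨x, rfl⟩ := QuotientGroup.mk'_surjective _ z
      refine hz1 ((QuotientGroup.eq_one_iff _).mpr (mem_subgroupOf.mpr ?_))
      rw [← e]
      exact ⟨x, hz, rfl⟩
    have hlayer := relIndex_le_of_commutator hq hAc hAe hcop hR₁A hRR₁
      (fun x hx y hy => ((hmem x).mp hx).2 y (hR₁N hy))
    have hmul : R.relIndex R₁ * R₁.relIndex P = R.relIndex P := relIndex_mul_relIndex _ _ _ hRR₁ hR₁P
    have hgt : 1 < R.relIndex R₁ := by
      have h0 : R.relIndex R₁ ≠ 0 := index_ne_zero_of_finite
      have h1 : R.relIndex R₁ ≠ 1 := fun h => hne (le_antisymm (relIndex_eq_one.mp h) hRR₁)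
      omega
    have hpos : 0 < R₁.relIndex P := Nat.pos_of_ne_zero index_ne_zero_of_finite
    have hrec := ih R₁ (by nlinarith) hR₁P hR₁A
    have hD : ∀ D : Big A q, R.relIndex (P ⊓ fx D.1) =
        R.relIndex (R₁ ⊓ fx D.1) * R₁.relIndex (P ⊓ fx D.1) := by
      intro D
      have h := relIndex_mul_relIndex (R ⊓ fx D.1) (R₁ ⊓ fx D.1) (P ⊓ fx D.1)
        (inf_le_inf_right _ hRR₁) (inf_le_inf_right _ hR₁P)
      have e : ∀ X Y : Subgroup G, (X ⊓ fx D.1).relIndex (Y ⊓ fx D.1) = X.relIndex (Y ⊓ fx D.1) := by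
        intro X Y
        rw [← inf_relIndex_right X, ← inf_relIndex_right (X ⊓ fx D.1)]
        congr 1
        rw [inf_comm Y, ← inf_assoc, inf_assoc X, inf_idem, inf_assoc]
      rw [e, e, e] at h
      exact h.symm
    rw [← hmul, Finset.prod_congr rfl fun D _ => hD D, Finset.prod_mul_distrib]
    exact Nat.mul_le_mul hlayer hrec

/-- The index of an invariant subgroup divides the product of its indices in the fixed points. -/
theorem index_dvd {q : ℕ} [Fintype (Big A q)] (hq : 0 < q) (hAc : ∀ a b : A, a * b = b * a)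
    (hAe : ∀ a : A, a ^ q = 1) (hcop : (Nat.card A).Coprime (Nat.card G)) {M : Subgroup G}
    (hM : ∀ (a : A), ∀ x ∈ M, a • x ∈ M) :
    M.index ∣ ∏ D : Big A q, M.relIndex (fx D.1) := by
  classical
  haveI := finite_semi (A := A) (G := G)
  haveI : IsMulCommutative (actA A G) := ⟨⟨fun x y => Subtype.ext (by
    obtain ⟨a, ha⟩ := x.2
    obtain ⟨b, hb⟩ := y.2
    show (x : Semi A G) * y = y * x
    rw [← ha, ← hb, ← map_mul, ← map_mul, hAc])⟩⟩
  have hpos : ∀ D : Big A q, M.relIndex (fx D.1) ≠ 0 := fun D => index_ne_zero_of_finite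
  rw [← Nat.factorization_prime_le_iff_dvd index_ne_zero_of_finite
    (Finset.prod_ne_zero_iff.mpr fun D _ => hpos D)]
  intro p hp
  haveI := Fact.mk hp
  set K := M.map (embG A G) with hK
  have hAK : actA A G ≤ normalizer (K : Set (Semi A G)) := actA_le_normalizer_iff.mpr hM
  have hcopK : (Nat.card (actA A G)).Coprime (Nat.card K) := by
    rw [card_actA, hK, card_map_embG]; exact hcop.coprime_dvd_right (card_subgroup_dvd_card M)
  obtain ⟨R₀, hR₀⟩ := Coprime.exists_invariant_sylow hAK hcopK
    (Or.inl (Coprime.isSolvable_of_isMulCommutative _)) p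
  set R' := (R₀ : Subgroup K).map K.subtype with hR'
  set R := R'.comap (embG A G) with hR
  have hR'K : R' ≤ K := map_subtype_le _
  have hRmap : R.map (embG A G) = R' := map_comap_eq_self (hR'K.trans (map_le_range _ _))
  have hRM : R ≤ M := by
    intro x hx
    exact (mem_map_iff_mem inl_injective).mp (hR'K hx)
  have hRcard : Nat.card R = p ^ (Nat.card M).factorization p := by
    rw [← card_map_embG (A := A) R, hRmap, hR', Coprime.card_sylow_map, hK, card_map_embG]
  have hRA : ∀ (a : A), ∀ x ∈ R, a • x ∈ R := by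
    rw [← hRmap] at hR₀
    exact actA_le_normalizer_iff.mp hR₀
  have hRp : IsPGroup p (R.map (embG A G)) :=
    IsPGroup.of_card (by rw [card_map_embG, hRcard])
  obtain ⟨P₀, hRP₀, hP₀⟩ := Coprime.exists_invariant_sylow_ge (actA_le_normalizer_grpG (A := A) (G := G))
    (by rw [card_actA, card_grpG]; exact hcop) (Or.inl (Coprime.isSolvable_of_isMulCommutative _)) p
    (R.map (embG A G)) (map_le_range _ _) hRp (actA_le_normalizer_iff.mpr hRA)
  set P' := (P₀ : Subgroup (grpG A G)).map (grpG A G).subtype with hP'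
  set P := P'.comap (embG A G) with hP
  have hPmap : P.map (embG A G) = P' := map_comap_eq_self (map_subtype_le _)
  have hPA : ∀ (a : A), ∀ x ∈ P, a • x ∈ P := by
    rw [← hPmap] at hP₀
    exact actA_le_normalizer_iff.mp hP₀
  have hPcard : Nat.card P = p ^ (Nat.card G).factorization p := by
    rw [← card_map_embG (A := A) P, hPmap, hP', Coprime.card_sylow_map, card_grpG]
  have hRP : R ≤ P := fun x hx => hRP₀ (mem_map_of_mem _ hx)
  have hmain := relIndex_le_of_isPGroup hq hAc hAe hcop (IsPGroup.of_card hPcard) hPA _ R le_rfl hRP hRA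
  have hstep : ∀ D : Big A q, R.relIndex (P ⊓ fx D.1) ≤ p ^ (M.relIndex (fx D.1)).factorization p := by
    intro D
    set C := M ⊓ fx D.1 with hC
    -- the fixed points in `R` contain a Sylow subgroup of those in `M`
    have hbig : p ^ (Nat.card C).factorization p ≤ Nat.card ↥(R ⊓ fx D.1) := by
      set B := D.1.map (inr : A →* Semi A G) with hB
      have hBA : B ≤ actA A G := map_le_range _ _
      obtain ⟨U₀⟩ : Nonempty (Sylow p C) := inferInstance
      set U := (U₀ : Subgroup C).map C.subtype with hU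
      have hUC : U ≤ C := map_subtype_le _
      have hUB : U.map (embG A G) ≤ centralizer (B : Set (Semi A G)) := by
        rintro _ ⟨u, hu, rfl⟩
        exact inl_mem_centralizer_map.mpr (hUC hu).2
      have hBU : B ≤ normalizer (U.map (embG A G) : Set (Semi A G)) :=
        (Subgroup.le_centralizer_iff.mp hUB).trans (centralizer_le_normalizer _)
      have hsol : Group.IsSolvable B ∨ Group.IsSolvable K :=
        Or.inl (by haveI := Coprime.isSolvable_of_isMulCommutative (actA A G); exact Coprime.isSolvable_of_le hBA)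
      obtain ⟨P₂, hUP₂, hP₂⟩ := Coprime.exists_invariant_sylow_ge (hBA.trans hAK)
        (hcopK.coprime_dvd_left (card_dvd_of_le hBA)) hsol p (U.map (embG A G))
        (Subgroup.map_mono (hUC.trans inf_le_left)) ((U₀.2.map _).map _) hBU
      obtain ⟨c, hc, hcP⟩ := Coprime.exists_conj_invariant_sylow (hBA.trans hAK)
        (hcopK.coprime_dvd_left (card_dvd_of_le hBA)) hsol P₂ R₀ hP₂ (hBA.trans hR₀)
      have hle : MulAut.conj c • U.map (embG A G) ≤ (R ⊓ fx D.1).map (embG A G) := by
        intro y hy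
        have hyR : y ∈ R' := by
          rw [hR', ← hcP]
          exact Subgroup.pointwise_smul_le_pointwise_smul_iff.mpr hUP₂ hy
        obtain ⟨r, hr, rfl⟩ := (hRmap.symm ▸ hyR : y ∈ R.map (embG A G))
        refine mem_map_of_mem _ ⟨hr, inl_mem_centralizer_map.mp ?_⟩
        rw [Coprime.mem_conj_smul] at hy
        have h1 := hUB hy
        have h2 := mul_mem (mul_mem (mem_inf.mp hc).2 h1) (inv_mem (mem_inf.mp hc).2)
        have e : ∀ z : Semi A G, c * (c⁻¹ * z * c) * c⁻¹ = z := fun z => by group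
        rw [e] at h2
        exact h2
      have h := card_le_of_le hle
      rwa [Coprime.card_conj_smul, card_map_embG, card_map_embG, hU, Coprime.card_sylow_map] at h
    -- orders
    have hPD : Nat.card ↥(P ⊓ fx D.1) ≤ p ^ (Nat.card ↥(fx (G := G) D.1)).factorization p := by
      obtain ⟨k, hk⟩ := IsPGroup.iff_card.mp ((IsPGroup.of_card hPcard).to_le (inf_le_left : P ⊓ fx D.1 ≤ P))
      rw [hk]
      refine Nat.pow_le_pow_right hp.pos ((hp.pow_dvd_iff_le_factorization Nat.card_pos.ne').mp ?_)
      rw [← hk]; exact card_dvd_of_le inf_le_right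
    have hRD : R.relIndex (P ⊓ fx D.1) * Nat.card ↥(R ⊓ fx D.1) = Nat.card ↥(P ⊓ fx D.1) := by
      have h := relIndex_mul_relIndex (⊥ : Subgroup G) (R ⊓ fx D.1) (P ⊓ fx D.1) bot_le
        (inf_le_inf_right _ hRP)
      rw [relIndex_bot_left, relIndex_bot_left, mul_comm] at h
      rw [← h, ← inf_relIndex_right R]
      congr 2
      rw [← inf_assoc, inf_eq_left.mpr hRP]
    have hMD : M.relIndex (fx D.1) * Nat.card C = Nat.card ↥(fx (G := G) D.1) := by
      have h := relIndex_mul_relIndex (⊥ : Subgroup G) C (fx D.1) bot_le inf_le_right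
      rw [relIndex_bot_left, relIndex_bot_left, mul_comm, inf_relIndex_right] at h
      exact h
    have hfac : (Nat.card ↥(fx (G := G) D.1)).factorization p =
        (M.relIndex (fx D.1)).factorization p + (Nat.card C).factorization p := by
      rw [← hMD, Nat.factorization_mul (hpos D) Nat.card_pos.ne']
      rfl
    rw [hfac, pow_add, ← hRD] at hPD
    exact Nat.le_of_mul_le_mul_right (le_trans (Nat.mul_le_mul_left _ hbig) hPD) (pow_pos hp.pos _)
  have hidx : R.relIndex P = p ^ M.index.factorization p := by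
    have h := relIndex_mul_relIndex (⊥ : Subgroup G) R P bot_le hRP
    rw [relIndex_bot_left, relIndex_bot_left, hRcard, hPcard] at h
    rw [← M.index_mul_card, Nat.factorization_mul index_ne_zero_of_finite Nat.card_pos.ne',
      Finsupp.add_apply, pow_add, mul_comm] at h
    exact Nat.eq_of_mul_eq_mul_right (pow_pos hp.pos _) h
  rw [Nat.factorization_prod fun D _ => hpos D, Finset.sum_apply']
  refine (Nat.pow_le_pow_iff_right hp.one_lt).mp ?_
  rw [← hidx, ← Finset.prod_pow_eq_pow_sum]
  exact hmain.trans (Finset.prod_le_prod' fun D _ => hstep D)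

end Cfsg.Agent.Lib.RankThreeDerived
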