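import Cfsg.Agent.Lib.RankThreeDerived.Index
import Cfsg.Agent.Lib.RankThreeDerived.Dietzmann

/-!
An elementary abelian group of order `q³` acting coprimely: if the derived subgroups of the fixed
points have order at most `m`, the derived subgroup has order bounded by a function of `q` and `m`.

Every generator fixed by a subgroup of order `q²` has boundedly many conjugates, their commutators
form a bounded set, and Dietzmann's lemma applies.
-/

set_option autoImplicit false
set_option linter.unusedSectionVars false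
set_option linter.style.haveILetI false
set_option maxHeartbeats 800000

namespace Cfsg.Agent.Lib.RankThreeDerived

open Subgroup
open scoped Pointwise commutatorElement

/-- Bound for the class size of a generator. -/
def classBound (q m : ℕ) : ℕ := (m ^ (q ^ 3)) ^ (2 ^ (q ^ 3))

/-- Bound for the set of commutators of generators and their conjugates. -/
def setBound (q m : ℕ) : ℕ := q ^ 3 * m * (classBound q m * classBound q m)

/-- Bound for the derived subgroup. -/
def derivedBound (q m : ℕ) : ℕ := (setBound q m + 1) ^ (setBound q m * m.factorial)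

variable {A G : Type*} [Group A] [Finite A] [Group G] [Finite G] [MulDistribMulAction A G]

theorem card_derived_le {q m : ℕ} (hq : q.Prime) (hA : Nat.card A = q ^ 3)
    (hAc : ∀ a b : A, a * b = b * a) (hAe : ∀ a : A, a ^ q = 1) (hqG : ¬ q ∣ Nat.card G)
    (hm : ∀ a : A, a ≠ 1 →
      Nat.card ↥(commutator ↥(FixedPoints.subgroup (zpowers a) G)) ≤ m) :
    Nat.card ↥(commutator G) ≤ derivedBound q m := by
  classical
  let _ : Fintype A := Fintype.ofFinite A
  let _ : Fintype (Big A q) := Fintype.ofFinite _
  have hcop : (Nat.card A).Coprime (Nat.card G) := by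
    rw [hA]; exact ((hq.coprime_iff_not_dvd).mpr hqG).pow_left 3
  -- two subgroups of index at most `q` meet
  have hmeet : ∀ D D' : Big A q, ∃ a : A, a ≠ 1 ∧ a ∈ D.1 ∧ a ∈ D'.1 := by
    intro D D'
    by_contra hno
    push Not at hno
    have hdis : Disjoint D.1 D'.1 := by
      rw [disjoint_iff, eq_bot_iff]
      intro a ha
      by_contra h1
      exact hno a (fun e => h1 (mem_bot.mpr e)) (mem_inf.mp ha).1 (mem_inf.mp ha).2
    have h1 : Nat.card D.1 * Nat.card D'.1 ≤ Nat.card A := by
      rw [← Nat.card_prod]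
      exact Nat.card_le_card_of_injective _ (Subgroup.mul_injective_of_disjoint hdis)
    have h2 := Nat.mul_le_mul D.2 D'.2
    rw [show q * Nat.card D.1 * (q * Nat.card D'.1) = q * q * (Nat.card D.1 * Nat.card D'.1) by ring] at h2
    have h3 := h2.trans (Nat.mul_le_mul_left _ h1)
    have h4 := Nat.le_of_mul_le_mul_right h3 Nat.card_pos
    rw [hA] at h4
    have := hq.two_le
    nlinarith
  set X : Set G := {x | ∃ D : Big A q, x ∈ fx (G := G) D.1} with hX
  -- the derived subgroups of the fixed points
  let C' : {a : A // a ≠ 1} → Subgroup G := fun a =>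
    (commutator ↥(FixedPoints.subgroup (zpowers (a : A)) G)).map
      (FixedPoints.subgroup (zpowers (a : A)) G).subtype
  have hC'card : ∀ a, Nat.card (C' a) ≤ m := fun a => by
    rw [card_map_of_injective (FixedPoints.subgroup (zpowers (a : A)) G).subtype_injective]
    exact hm a a.2
  have hsub : ∀ D : Big A q, ∀ a : A, a ∈ D.1 → ∀ x ∈ fx (G := G) D.1,
      x ∈ FixedPoints.subgroup (zpowers a) G := by
    intro D a ha x hx b
    exact mem_fx.mp hx b (zpowers_le.mpr ha b.2)
  have hcomm : ∀ D D' : Big A q, ∀ a : {a : A // a ≠ 1}, (a : A) ∈ D.1 → (a : A) ∈ D'.1 →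
      ∀ x ∈ fx (G := G) D.1, ∀ y ∈ fx (G := G) D'.1, ⁅x, y⁆ ∈ C' a := by
    intro D D' a h1 h2 x hx y hy
    exact ⟨⁅(⟨x, hsub D a h1 x hx⟩ : FixedPoints.subgroup (zpowers (a : A)) G), ⟨y, hsub D' a h2 y hy⟩⁆,
      commutator_mem_commutator (mem_top _) (mem_top _), rfl⟩
  have hmpos : 1 ≤ m := by
    obtain ⟨a, ha, -, -⟩ := hmeet ⟨⊤, by rw [card_top]; exact Nat.le_mul_of_pos_left _ hq.pos⟩
      ⟨⊤, by rw [card_top]; exact Nat.le_mul_of_pos_left _ hq.pos⟩
    exact le_trans Nat.card_pos (hC'card ⟨a, ha⟩)
  -- class sizes of generators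
  have hrel : ∀ x ∈ X, ∀ D' : Big A q, (centralizer {x}).relIndex (fx (G := G) D'.1) ≤ m := by
    rintro x ⟨D, hx⟩ D'
    obtain ⟨a, ha, haD, haD'⟩ := hmeet D D'
    rw [relIndex, index_eq_card]
    refine le_trans ?_ (hC'card ⟨a, ha⟩)
    set F := fx (G := G) D'.1 with hF
    refine Nat.card_le_card_of_injective
      (Quotient.lift (fun y : F => (⟨⁅(y : G), x⁆, hcomm D' D ⟨a, ha⟩ haD' haD _ y.2 _ hx⟩ : C' ⟨a, ha⟩)) ?_) ?_
    · intro y z h
      have h' : (y⁻¹ * z : F) ∈ (centralizer {x}).subgroupOf F := QuotientGroup.leftRel_apply.mp h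
      rw [mem_subgroupOf, mem_centralizer_singleton_iff] at h'
      apply Subtype.ext
      simp only [coe_mul, coe_inv] at h'
      simp only [commutatorElement_def]
      calc (y : G) * x * (y : G)⁻¹ * x⁻¹ = (y : G) * (x * ((y : G)⁻¹ * z)) * (z : G)⁻¹ * x⁻¹ := by group
        _ = (z : G) * x * (z : G)⁻¹ * x⁻¹ := by rw [← h']; group
    · intro y z h
      induction y using Quotient.inductionOn with | _ y => ?_
      induction z using Quotient.inductionOn with | _ z => ?_
      apply Quotient.sound
      refine QuotientGroup.leftRel_apply.mpr ?_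
      rw [mem_subgroupOf, mem_centralizer_singleton_iff]
      have h' : (y : G) * x * (y : G)⁻¹ = (z : G) * x * (z : G)⁻¹ :=
        mul_right_cancel (congrArg Subtype.val h : (y : G) * x * (y : G)⁻¹ * x⁻¹ = _)
      simp only [coe_mul, coe_inv]
      calc (y : G)⁻¹ * z * x = (y : G)⁻¹ * ((z : G) * x * (z : G)⁻¹) * z := by group
        _ = x * ((y : G)⁻¹ * z) := by rw [← h']; group
  have hclass : ∀ x ∈ X, (centralizer {x}).index ≤ classBound q m := by
    intro x hx
    obtain ⟨D, hxD⟩ := hx
    set M : Subgroup G := ⨅ α : A, centralizer {α • x} with hM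
    have hMA : ∀ (b : A), ∀ y ∈ M, b • y ∈ M := by
      intro b y hy
      rw [hM, mem_iInf] at hy ⊢
      intro α
      rw [mem_centralizer_singleton_iff]
      have h := mem_centralizer_singleton_iff.mp (hy (b⁻¹ * α))
      have h' := congrArg (b • ·) h
      simpa [smul_mul', ← mul_smul] using h'
    have hMC : M ≤ centralizer {x} := by
      have := iInf_le (fun α : A => centralizer {α • x}) 1
      rwa [one_smul] at this
    refine le_trans (index_antitone hMC) ?_
    refine le_trans (Nat.le_of_dvd (Finset.prod_pos fun D _ => Nat.pos_of_ne_zero index_ne_zero_of_finite)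
      (index_dvd hq.pos hAc hAe hcop hMA)) ?_
    refine le_trans (Finset.prod_le_pow_card _ _ (m ^ q ^ 3) fun D' _ => ?_) ?_
    · refine le_trans (relIndex_iInf_le _) ?_
      refine le_trans (Finset.prod_le_pow_card _ _ m fun α _ => hrel _ ⟨D, ?_⟩ D') ?_
      · rw [mem_fx]
        intro d hd
        rw [← mul_smul, hAc, mul_smul, mem_fx.mp hxD d hd]
      · rw [Finset.card_univ, ← Nat.card_eq_fintype_card, hA]
    · refine Nat.pow_le_pow_right (pow_pos hmpos _) ?_
      rw [Finset.card_univ, ← Nat.card_eq_fintype_card, ← hA]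
      refine le_trans (Nat.card_le_card_of_injective (fun D : Big A q => (D.1 : Set A))
        fun D D' h => Subtype.ext (SetLike.coe_injective h)) ?_
      rw [Nat.card_eq_fintype_card, Fintype.card_set, Nat.card_eq_fintype_card]
  -- the commutators of generators and their conjugates
  set S : Set G := {s | ∃ x ∈ X, ∃ y ∈ X, s = ⁅x, y⁆} with hS
  set T : Set G := {t | ∃ s ∈ S, ∃ g : G, t = g * s * g⁻¹} with hT
  have hSC : ∀ s ∈ S, ∃ a, s ∈ C' a := by
    rintro _ ⟨x, ⟨D, hx⟩, y, ⟨D', hy⟩, rfl⟩
    obtain ⟨a, ha, h1, h2⟩ := hmeet D D'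
    exact ⟨⟨a, ha⟩, hcomm D D' ⟨a, ha⟩ h1 h2 x hx y hy⟩
  have hScard : Nat.card S ≤ q ^ 3 * m := by
    choose f hf using hSC
    refine le_trans (Nat.card_le_card_of_injective (β := Σ a : {a : A // a ≠ 1}, C' a)
      (fun s => ⟨f s s.2, (s : G), hf s s.2⟩) fun s s' h => Subtype.ext ?_) ?_
    · exact congrArg (fun z : Σ a : {a : A // a ≠ 1}, C' a => (z.2 : G)) h
    · rw [Nat.card_sigma]
      refine le_trans (Finset.sum_le_card_nsmul _ _ m fun a _ => hC'card a) ?_
      rw [smul_eq_mul, Finset.card_univ, ← Nat.card_eq_fintype_card]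
      exact Nat.mul_le_mul_right _ (hA ▸ Nat.card_le_card_of_injective _ Subtype.val_injective)
  have hTcard : T.ncard ≤ setBound q m := by
    let _ : Fintype S := Fintype.ofFinite S
    have hsurj : ∀ t : T, ∃ z : Σ s : S, G ⧸ centralizer {(s : G)},
        ∀ g : G, (g : G ⧸ centralizer {(z.1 : G)}) = z.2 → (t : G) = g * z.1 * g⁻¹ := by
      rintro ⟨_, s, hs, g, rfl⟩
      refine ⟨⟨⟨s, hs⟩, g⟩, fun g' h => ?_⟩
      have h' := mem_centralizer_singleton_iff.mp (QuotientGroup.eq.mp h)
      show g * s * g⁻¹ = g' * s * g'⁻¹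
      calc g * s * g⁻¹ = g' * ((g'⁻¹ * g) * s) * g⁻¹ := by group
        _ = g' * s * g'⁻¹ := by rw [h']; group
    choose φ hφ using hsurj
    rw [← Nat.card_coe_set_eq]
    refine le_trans (Nat.card_le_card_of_injective φ fun t t' h => Subtype.ext ?_) ?_
    · obtain ⟨g, hg⟩ := QuotientGroup.mk_surjective (φ t).2
      have h1 := hφ t g hg
      have h2 : ∀ z, z = φ t' → ∀ g : G, (g : G ⧸ centralizer {(z.1 : G)}) = z.2 →
          (t' : G) = g * z.1 * g⁻¹ := fun z hz => hz ▸ hφ t'
      rw [h1, h2 _ h g hg]
    · rw [Nat.card_sigma]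
      refine le_trans (Finset.sum_le_card_nsmul _ _ (classBound q m * classBound q m) fun s _ => ?_) ?_
      · obtain ⟨x, hx, y, hy, hs⟩ := s.2
        rw [← index_eq_card]
        refine le_trans (index_antitone ?_) (le_trans index_inf_le (Nat.mul_le_mul (hclass x hx) (hclass y hy)))
        intro c hc
        rw [mem_inf, mem_centralizer_singleton_iff, mem_centralizer_singleton_iff] at hc
        rw [mem_centralizer_singleton_iff, hs, commutatorElement_def]
        have h1 : Commute c x := hc.1
        have h2 : Commute c y := hc.2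
        exact (((h1.mul_right h2).mul_right h1.inv_right).mul_right h2.inv_right).eq
      · rw [smul_eq_mul, Finset.card_univ, ← Nat.card_eq_fintype_card, setBound]
        exact Nat.mul_le_mul_right _ hScard
  have hTconj : ∀ (g : G), ∀ t ∈ T, g * t * g⁻¹ ∈ T := by
    rintro g _ ⟨s, hs, h, rfl⟩
    exact ⟨s, hs, g * h, by group⟩
  have hTord : ∀ t ∈ T, t ^ m.factorial = 1 := by
    rintro _ ⟨s, hs, g, rfl⟩
    obtain ⟨a, ha⟩ := hSC s hs
    rw [conj_pow]
    have h1 : orderOf s ∣ m.factorial := Nat.dvd_factorial (orderOf_pos s) (by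
      rw [← Subgroup.orderOf_mk s ha]
      exact (_root_.orderOf_le_card (x := (⟨s, ha⟩ : C' a))).trans (hC'card a))
    rw [orderOf_dvd_iff_pow_eq_one.mp h1, mul_one, mul_inv_cancel]
  -- the derived subgroup lies in the closure of this set
  have hXtop : closure X = ⊤ := by
    rw [eq_top_iff]
    refine le_trans (gen hq.pos hAc hAe hcop (K := ⊤) fun a x _ => mem_top _) (iSup_le fun D x hx => ?_)
    exact subset_closure ⟨D, (mem_inf.mp hx).2⟩
  haveI hTn : (closure T).Normal := by
    refine ⟨fun x hx g => ?_⟩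
    induction hx using closure_induction with
    | mem t ht => exact subset_closure (hTconj g t ht)
    | one => simp
    | mul x y _ _ h1 h2 =>
      rw [show g * (x * y) * g⁻¹ = (g * x * g⁻¹) * (g * y * g⁻¹) by group]; exact mul_mem h1 h2
    | inv x _ h1 =>
      rw [show g * x⁻¹ * g⁻¹ = (g * x * g⁻¹)⁻¹ by group]; exact inv_mem h1
  have hle : commutator G ≤ closure T := by
    rw [_root_.commutator_def, commutator_le]
    intro g _ h _
    rw [← QuotientGroup.eq_one_iff, ← QuotientGroup.mk'_apply, map_commutatorElement,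
      commutatorElement_eq_one_iff_mul_comm]
    have hgen : ∀ x ∈ X, ∀ y ∈ X, Commute (QuotientGroup.mk' (closure T) x) (QuotientGroup.mk' (closure T) y) := by
      intro x hx y hy
      rw [Commute, SemiconjBy, ← commutatorElement_eq_one_iff_mul_comm, ← map_commutatorElement,
        QuotientGroup.mk'_apply, QuotientGroup.eq_one_iff]
      exact subset_closure ⟨⁅x, y⁆, ⟨x, hx, y, hy, rfl⟩, 1, by group⟩
    have hall : ∀ g ∈ closure X, ∀ h ∈ closure X,
        Commute (QuotientGroup.mk' (closure T) g) (QuotientGroup.mk' (closure T) h) := by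
      intro g hg h hh
      induction hg using closure_induction with
      | mem x hx =>
        induction hh using closure_induction with
        | mem y hy => exact hgen x hx y hy
        | one => rw [map_one]; exact Commute.one_right _
        | mul u v _ _ h1 h2 => rw [map_mul]; exact h1.mul_right h2
        | inv u _ h1 => rw [map_inv]; exact h1.inv_right
      | one => rw [map_one]; exact Commute.one_left _
      | mul u v _ _ h1 h2 => rw [map_mul]; exact h1.mul_left h2
      | inv u _ h1 => rw [map_inv]; exact h1.inv_left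
    exact hall g (hXtop ▸ mem_top g) h (hXtop ▸ mem_top h)
  exact le_trans (card_le_of_le hle) (card_closure_le m.factorial_pos hTord hTconj hTcard)

end Cfsg.Agent.Lib.RankThreeDerived
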